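import Cfsg.Prelude.Def_Transfer
import Cfsg.Agent.Solvable.Frattini
import Mathlib

/-!
# Subgroups behaving like extraspecial groups with a given central element
-/

set_option autoImplicit false
set_option linter.unusedSectionVars false

namespace CfsgLib.SymplecticType

open scoped commutatorElement

variable {G : Type*} [Group G] {p : ℕ} {c : G}

/-- `E` is `⟨c⟩` or extraspecial with centre `⟨c⟩`. -/
structure Ext (p : ℕ) (c : G) (E : Subgroup G) : Prop where
  mem : c ∈ E
  comm : ∀ x ∈ E, ∀ y ∈ E, ⁅x, y⁆ ∈ Subgroup.zpowers c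
  pow : ∀ x ∈ E, x ^ p ∈ Subgroup.zpowers c
  cen : ∀ x ∈ E, (∀ y ∈ E, Commute x y) → x ∈ Subgroup.zpowers c

theorem ext_zpowers (hp : orderOf c = p) : Ext p c (Subgroup.zpowers c) where
  mem := Subgroup.mem_zpowers c
  comm := fun x hx y hy => by
    rw [commutatorElement_def]
    exact mul_mem (mul_mem (mul_mem hx hy) (inv_mem hx)) (inv_mem hy)
  pow := fun x hx => pow_mem hx p
  cen := fun x hx _ => hx

/-- Elements of the join of two elementwise commuting subgroups. -/
theorem exists_mul_of_mem_sup {E F : Subgroup G} (h : ∀ e ∈ E, ∀ f ∈ F, Commute e f) {x : G}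
    (hx : x ∈ E ⊔ F) : ∃ e ∈ E, ∃ f ∈ F, x = e * f := by
  let K : Subgroup G :=
    { carrier := {x | ∃ e ∈ E, ∃ f ∈ F, x = e * f}
      one_mem' := ⟨1, one_mem _, 1, one_mem _, (one_mul 1).symm⟩
      mul_mem' := by
        rintro _ _ ⟨e, he, f, hf, rfl⟩ ⟨e', he', f', hf', rfl⟩
        refine ⟨e * e', mul_mem he he', f * f', mul_mem hf hf', ?_⟩
        calc e * f * (e' * f') = e * (f * e') * f' := by group
          _ = e * (e' * f) * f' := by rw [(h e' he' f hf).eq]
          _ = e * e' * (f * f') := by group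
      inv_mem' := by
        rintro _ ⟨e, he, f, hf, rfl⟩
        refine ⟨e⁻¹, inv_mem he, f⁻¹, inv_mem hf, ?_⟩
        rw [mul_inv_rev, (h e he f hf).inv_inv.eq] }
  exact (sup_le (fun e he => ⟨e, he, 1, one_mem _, (mul_one e).symm⟩)
    (fun f hf => ⟨1, one_mem _, f, hf, (one_mul f).symm⟩) : E ⊔ F ≤ K) hx

/-- A central product. -/
theorem Ext.sup {E F : Subgroup G} (hE : Ext p c E) (hF : Ext p c F)
    (h : ∀ e ∈ E, ∀ f ∈ F, Commute e f) : Ext p c (E ⊔ F) where
  mem := Subgroup.mem_sup_left hE.mem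
  comm := fun x hx y hy => by
    obtain ⟨e, he, f, hf, rfl⟩ := exists_mul_of_mem_sup h hx
    obtain ⟨e', he', f', hf', rfl⟩ := exists_mul_of_mem_sup h hy
    have : ⁅e * f, e' * f'⁆ = ⁅e, e'⁆ * ⁅f, f'⁆ := by
      rw [commutatorElement_def, commutatorElement_def, commutatorElement_def]
      calc e * f * (e' * f') * (e * f)⁻¹ * (e' * f')⁻¹
          = e * (f * e') * (f' * f⁻¹ * (e⁻¹ * f'⁻¹)) * e'⁻¹ := by group
        _ = e * (e' * f) * (f' * f⁻¹ * (f'⁻¹ * e⁻¹)) * e'⁻¹ := by
            rw [(h e' he' f hf).eq, (h e he f' hf').inv_inv.eq]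
        _ = e * e' * (f * f' * f⁻¹ * f'⁻¹ * e⁻¹) * e'⁻¹ := by group
        _ = e * e' * (e⁻¹ * (f * f' * f⁻¹ * f'⁻¹)) * e'⁻¹ := by
            rw [(h e⁻¹ (inv_mem he) (f * f' * f⁻¹ * f'⁻¹)
              (mul_mem (mul_mem (mul_mem hf hf') (inv_mem hf)) (inv_mem hf'))).eq]
        _ = e * e' * e⁻¹ * ((f * f' * f⁻¹ * f'⁻¹) * e'⁻¹) := by group
        _ = _ := by
            rw [← (h e'⁻¹ (inv_mem he') (f * f' * f⁻¹ * f'⁻¹)
              (mul_mem (mul_mem (mul_mem hf hf') (inv_mem hf)) (inv_mem hf'))).eq]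
            group
    rw [this]
    exact mul_mem (hE.comm e he e' he') (hF.comm f hf f' hf')
  pow := fun x hx => by
    obtain ⟨e, he, f, hf, rfl⟩ := exists_mul_of_mem_sup h hx
    rw [(h e he f hf).mul_pow]
    exact mul_mem (hE.pow e he) (hF.pow f hf)
  cen := fun x hx hc => by
    obtain ⟨e, he, f, hf, rfl⟩ := exists_mul_of_mem_sup h hx
    refine mul_mem (hE.cen e he fun y hy => ?_) (hF.cen f hf fun y hy => ?_)
    · have h2 : Commute (e * f) y := hc y (Subgroup.mem_sup_left hy)
      simpa using h2.mul_left (h y hy f hf).symm.inv_left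
    · have h2 : Commute (e * f) y := hc y (Subgroup.mem_sup_right hy)
      simpa using (h e he y hy).inv_left.mul_left h2

/-- `Ext` gives extraspecial groups. -/
theorem Ext.isExtraspecial [Finite G] [Fact p.Prime] (hG : IsPGroup p G) (hc : orderOf c = p)
    {E : Subgroup G} (hE : Ext p c E) (hne : E ≠ Subgroup.zpowers c) :
    Cfsg.IsExtraspecial p E := by
  set N := (Subgroup.zpowers c).subgroupOf E with hN
  have hcard : Nat.card N = p := by
    rw [Nat.card_congr (Subgroup.subgroupOfEquivOfLe (Subgroup.zpowers_le.mpr hE.mem)).toEquiv,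
      Nat.card_zpowers, hc]
  have hcomm : commutator E ≤ N := by
    rw [commutator_def, Subgroup.commutator_le]
    exact fun x _ y _ => hE.comm x x.2 y y.2
  have hcen : Subgroup.center E ≤ N := fun x hx =>
    hE.cen x x.2 fun y hy => (congrArg Subtype.val (Subgroup.mem_center_iff.mp hx ⟨y, hy⟩)).symm
  have hzne : commutator E ≠ ⊥ := by
    intro h
    apply hne
    refine le_antisymm (fun x hx => hE.cen x hx fun y hy => ?_) (Subgroup.zpowers_le.mpr hE.mem)
    have h1 : ⁅(⟨x, hx⟩ : E), ⟨y, hy⟩⁆ ∈ commutator E := by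
      rw [commutator_def]
      exact Subgroup.commutator_mem_commutator (Subgroup.mem_top _) (Subgroup.mem_top _)
    rw [h, Subgroup.mem_bot, commutatorElement_eq_one_iff_commute] at h1
    exact congrArg Subtype.val h1
  have hcN : commutator E = N := by
    refine Subgroup.eq_of_le_of_card_ge hcomm ?_
    have h1 := Subgroup.card_dvd_of_le hcomm
    rw [hcard] at h1 ⊢
    rcases (Fact.out : p.Prime).eq_one_or_self_of_dvd _ h1 with h | h
    · exact absurd (Subgroup.card_eq_one.mp h) hzne
    · exact h.ge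
  have hzN : Subgroup.center E = N := by
    refine Subgroup.eq_of_le_of_card_ge hcen ?_
    have : Nontrivial E := by
      by_contra h
      rw [not_nontrivial_iff_subsingleton] at h
      exact hzne (Subsingleton.elim _ _)
    have := (hG.to_subgroup E).center_nontrivial
    have h1 := Subgroup.card_dvd_of_le hcen
    rw [hcard] at h1 ⊢
    rcases (Fact.out : p.Prime).eq_one_or_self_of_dvd _ h1 with h | h
    · exact absurd h (ne_of_gt Finite.one_lt_card)
    · exact h.ge
  refine ⟨⟨hG.to_subgroup E, ?_, hcN.trans hzN.symm⟩, by rw [hzN, hcard]⟩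
  rw [hzN]
  refine le_antisymm ?_ (hcN ▸ CfsgLib.Solvable.commutator_le_frattini (hG.to_subgroup E))
  have : N.Normal := hzN ▸ inferInstance
  exact CfsgLib.Solvable.frattini_le_of_elementary (p := p) hcomm fun x => hE.pow x x.2

end CfsgLib.SymplecticType
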