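import Cfsg.Agent.SymplecticType.Main

/-!
# Hall's theorem on `p`-groups of symplectic type
-/

set_option autoImplicit false
set_option linter.unusedSectionVars false

namespace CfsgLib.SymplecticType

open CfsgLib.SelfCentralCyclic (Data)
open scoped commutatorElement

variable {G : Type*} [Group G] [Finite G] {p : ℕ} [hp : Fact p.Prime]

theorem hasStructure (hG : IsPGroup p G)
    (hsymp : ∀ A : Subgroup G, A.Characteristic → IsMulCommutative A → IsCyclic A) :
    HasStructure p G := by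
  classical
  rcases subsingleton_or_nontrivial G with h | h
  · exact ⟨⊥, ⊥, fun e _ r _ => Subsingleton.elim _ _, Subsingleton.elim _ _, Or.inl rfl,
      Or.inl inferInstance⟩
  obtain ⟨C, Z, c, S⟩ := exists_setup hG hsymp
  obtain ⟨E, hEC, hE, hEself⟩ := S.exists_ext
  set R := Subgroup.centralizer (E : Set G) with hR
  have hER : ∀ e ∈ E, ∀ x ∈ R, Commute e x := fun e he x hx => hx e he
  have hsup : E ⊔ R = ⊤ := S.sup_centralizer hEC hE
  have hfinish : (IsCyclic R ∨ (p = 2 ∧ 16 ≤ Nat.card R ∧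
      ((∃ m : ℕ, Nonempty (↥R ≃* DihedralGroup m)) ∨
        (∃ m : ℕ, Nonempty (↥R ≃* QuaternionGroup m)) ∨ Cfsg.IsQuasiDihedral ↥R))) →
      HasStructure p G := by
    intro hRt
    by_cases hne : E = Subgroup.zpowers c
    · refine ⟨⊥, R, fun e he r _ => by rw [Subgroup.mem_bot.mp he, one_mul, mul_one], ?_,
        Or.inl rfl, hRt⟩
      rw [bot_sup_eq, eq_top_iff]
      intro g _
      rw [hR, Subgroup.mem_centralizer_iff]
      intro x hx
      rw [hne] at hx
      obtain ⟨j, rfl⟩ := Subgroup.mem_zpowers_iff.mp hx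
      exact (((S.central g).zpow_right j).eq).symm
    · exact ⟨E, R, fun e he r hr => (hER e he r hr).eq, hsup,
        Or.inr (hE.isExtraspecial hG S.ord hne), hRt⟩
  have hZR : Z ≤ R := fun z hz e he => (S.commute_Z (hEC he) hz).eq
  obtain ⟨a, ha⟩ := Z.isCyclic_iff_exists_zpowers_eq_top.mp S.cyc
  have haZ : a ∈ Z := ha ▸ Subgroup.mem_zpowers a
  have haR : a ∈ R := hZR haZ
  by_cases hRZ : R ≤ Z
  · have := S.cyc
    exact hfinish (Or.inl (Subgroup.isCyclic_of_le hRZ))
  set a' : R := ⟨a, haR⟩ with ha'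
  have hmem : ∀ x : R, x ∈ Subgroup.zpowers a' ↔ (x : G) ∈ Z := by
    intro x
    rw [← ha, Subgroup.mem_zpowers_iff, Subgroup.mem_zpowers_iff]
    exact exists_congr fun k => ⟨fun h => by simpa [ha'] using congrArg Subtype.val h,
      fun h => Subtype.ext (by simpa [ha'] using h)⟩
  have := S.charZ
  have hconj : ∀ g : R, g * a' * g⁻¹ ∈ Subgroup.zpowers a' := fun g =>
    (hmem _).mpr ((inferInstance : Z.Normal).conj_mem a haZ g)
  choose r hr using fun g : R => Subgroup.mem_zpowers_iff.mp (hconj g)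
  obtain ⟨n, hn⟩ := (IsPGroup.iff_orderOf (p := p)).mp (hG.to_subgroup R) a'
  have D : Data p n a' r :=
    { pgroup := hG.to_subgroup R
      order := hn
      conj := fun g => (hr g).symm
      self := fun x hx => (hmem x).mpr (hEself x x.2 fun z hz => by
        rw [← ha] at hz
        obtain ⟨j, rfl⟩ := Subgroup.mem_zpowers_iff.mp hz
        exact Commute.zpow_right (show Commute (x : G) a from congrArg Subtype.val hx.eq) j)
      nonab := by
        obtain ⟨x, hxR, hxZ⟩ := SetLike.not_le_iff_exists.mp hRZ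
        exact ⟨⟨x, hxR⟩, fun h => hxZ ((hmem _).mp h)⟩ }
  have hn2 := D.two_le
  have hextra : n = 2 → Nat.card R = p ^ 3 → HasStructure p G := by
    intro h2 hcard
    subst h2
    have hR3 := ext_top_of_two D hcard
    have hap : (a ^ (p : ℤ)) ^ p = 1 := by
      have h := pow_orderOf_eq_one a'
      rw [hn] at h
      have h' : a ^ p ^ 2 = 1 := congrArg Subtype.val h
      rw [zpow_natCast, ← pow_mul, ← sq]
      exact h'
    have hapc : ∀ x : R, x ∈ Subgroup.zpowers (a' ^ (p : ℤ)) → (x : G) ∈ Subgroup.zpowers c := by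
      rintro _ ⟨j, rfl⟩
      show (a ^ (p : ℤ)) ^ j ∈ _
      exact zpow_mem (S.small (zpow_mem haZ _) hap) j
    have hRext : Ext p c R := ⟨hZR S.cmem,
      fun x hx y hy => hapc ⁅(⟨x, hx⟩ : R), ⟨y, hy⟩⁆ (hR3.comm _ trivial _ trivial),
      fun x hx => hapc ((⟨x, hx⟩ : R) ^ p) (hR3.pow _ trivial),
      fun x hx h => hapc ⟨x, hx⟩ (hR3.cen _ trivial fun y _ => Subtype.ext (h y y.2))⟩
    have htop : Ext p c (⊤ : Subgroup G) := hsup ▸ hE.sup hRext hER
    refine ⟨⊤, ⊥, fun e _ r hr => by rw [Subgroup.mem_bot.mp hr, one_mul, mul_one], top_sup_eq _,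
      Or.inr (htop.isExtraspecial hG S.ord fun h => hRZ fun x _ => ?_), Or.inl inferInstance⟩
    exact Subgroup.zpowers_le.mpr S.cmem (h ▸ Subgroup.mem_top x)
  set M := Subgroup.centralizer (Cfsg.powerClosure p 1 (Subgroup.zpowers a') : Set R)
  have hM := D.mem_cent_iff
  have hclass : SelfCentralCyclic.MaxClassType p n R → HasStructure p G := by
    rintro ⟨rfl, hcard, htype⟩
    rcases hn2.eq_or_lt with h2 | h3
    · subst h2
      exact hextra rfl hcard
    · refine hfinish (Or.inr ⟨rfl, ?_, htype⟩)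
      rw [hcard]
      exact le_trans (by norm_num) (Nat.pow_le_pow_right two_pos (show 4 ≤ n + 1 by omega))
  by_cases hgt : M ≤ Subgroup.zpowers a'
  · exact hclass (SelfCentralCyclic.maxClass_of_self D fun g hg => hgt ((hM g).mpr hg))
  rcases SelfCentralCyclic.cases_of_gt D hM hgt with hmc | ⟨hidx, hel, hcardΩ, -⟩
  · exact hclass hmc
  rcases hn2.eq_or_lt with h2 | h3
  · refine hextra h2.symm ?_
    subst h2
    have htop : M = ⊤ := eq_top_iff.mpr fun g _ => (hM g).mpr (by
      rw [show 2 - 1 = 1 from rfl, pow_one]; exact D.dvd_prime' g)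
    replace hidx : (Subgroup.zpowers a').relIndex M = p := hidx
    rw [htop, Subgroup.relIndex_top_right] at hidx
    rw [← Subgroup.card_mul_index (Subgroup.zpowers a'), hidx, Nat.card_zpowers, hn, ← pow_succ]
  exfalso
  obtain ⟨y, hyp, hyU, hya, hy⟩ := exists_small_central D h3 hM hidx hel hcardΩ
  have hAc : (Subgroup.zpowers (a ^ (p : ℤ))).Characteristic := by
    refine Subgroup.characteristic_iff_le_comap.mpr fun φ x hx => ?_
    obtain ⟨j, rfl⟩ := Subgroup.mem_zpowers_iff.mp hx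
    have h := (Subgroup.characteristic_iff_le_comap.mp S.charZ φ) haZ
    rw [← ha] at h
    obtain ⟨i, hi⟩ := Subgroup.mem_zpowers_iff.mp h
    refine Subgroup.mem_zpowers_iff.mpr ⟨i * j, ?_⟩
    show _ = φ ((a ^ (p : ℤ)) ^ j)
    rw [map_zpow, map_zpow, show φ a = a ^ i from hi.symm, ← zpow_mul, ← zpow_mul, ← zpow_mul]
    ring_nf
  set W := Subgroup.centralizer ((Subgroup.zpowers (a ^ (p : ℤ))) : Set G) with hW
  set Γ := Subgroup.closure {x : G | x ∈ W ∧ x ^ p ^ 2 = 1} with hΓ
  have hWc : W.Characteristic := inferInstance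
  have hΓc : Γ.Characteristic := by
    refine Subgroup.characteristic_iff_le_comap.mpr fun φ => (Subgroup.closure_le _).mpr ?_
    rintro x ⟨hxW, hxp⟩
    exact Subgroup.subset_closure ⟨(Subgroup.characteristic_iff_le_comap.mp hWc φ) hxW,
      by rw [← map_pow]; show φ (x ^ p ^ 2) = 1; rw [hxp, map_one]⟩
  have hWiff : ∀ x : G, x ∈ W ↔ Commute x (a ^ (p : ℤ)) := by
    intro x
    rw [hW, Subgroup.mem_centralizer_iff]
    refine ⟨fun h => (h _ (Subgroup.mem_zpowers _)).symm, fun h z hz => ?_⟩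
    obtain ⟨j, rfl⟩ := Subgroup.mem_zpowers_iff.mp hz
    exact ((h.zpow_right j).eq).symm
  have hcΓ : c ∈ Γ := Subgroup.subset_closure ⟨(hWiff c).mpr (S.central _).symm, by
    rw [sq, pow_mul, ← S.ord, pow_orderOf_eq_one, one_pow]⟩
  have hyG : (y : G) ∈ Γ := Subgroup.subset_closure
    ⟨(hWiff _).mpr (show Commute (y : G) (a ^ (p : ℤ)) from congrArg Subtype.val hya.eq), by
      rw [sq, pow_mul, show (y : G) ^ p = 1 from congrArg Subtype.val hyp, one_pow]⟩
  have hΓy : Γ ≤ Subgroup.centralizer ({(y : G)} : Set G) := by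
    refine (Subgroup.closure_le _).mpr ?_
    rintro x ⟨hxW, hxp⟩
    obtain ⟨e, he, m, hm, rfl⟩ := exists_mul_of_mem_sup hER (hsup.symm ▸ Subgroup.mem_top x)
    have hea : Commute e (a ^ (p : ℤ)) := S.commute_Z (hEC he) (zpow_mem haZ _)
    have hma : Commute m (a ^ (p : ℤ)) := by
      have := hea.inv_left.mul_left ((hWiff _).mp hxW)
      rwa [inv_mul_cancel_left] at this
    have hep : e ^ p ^ 2 = 1 := by
      rw [sq, pow_mul, ← orderOf_dvd_iff_pow_eq_one]
      exact (orderOf_dvd_of_mem_zpowers (hE.pow e he)).trans (dvd_of_eq S.ord)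
    rw [(hER e he m hm).mul_pow, hep, one_mul] at hxp
    have hmy : Commute (⟨m, hm⟩ : R) y := hy ⟨m, hm⟩
      (Subtype.ext hma.eq) (Subtype.ext hxp)
    exact Subgroup.mem_centralizer_singleton_iff.mpr
      ((hER e he y y.2).mul_left (show Commute m (y : G) from congrArg Subtype.val hmy.eq)).eq
  set A := Γ ⊓ Subgroup.centralizer (Γ : Set G) with hA
  have hAcyc : IsCyclic A := S.symp A Subgroup.characteristic_inf
    ⟨⟨fun u v => Subtype.ext (v.2.2 u u.2.1)⟩⟩
  have hyA : (y : G) ∈ A := ⟨hyG, fun x hx =>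
    Subgroup.mem_centralizer_singleton_iff.mp (hΓy hx)⟩
  have hyc := mem_zpowers_of_cyclic hAcyc (c := c) ⟨hcΓ, fun x _ => (S.central x).eq⟩ hyA
    (by rw [S.ord]; exact congrArg Subtype.val hyp)
  exact hyU ((hmem y).mpr (Subgroup.zpowers_le.mpr S.cmem hyc))

end CfsgLib.SymplecticType
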