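import Cfsg.Agent.SymplecticType.Tail
import Cfsg.Agent.Transfer.Critical
import Cfsg.Agent.S0110

/-!
# The structure of `p`-groups of symplectic type (P. Hall)
-/

set_option autoImplicit false
set_option linter.unusedSectionVars false

namespace CfsgLib.SymplecticType

open scoped commutatorElement
open CfsgLib.SelfCentralCyclic (Data)
open CfsgLib.Classification.CyclicNormal (mul_pow_of_comm)

/-- The structure asserted by Hall's theorem. -/
def HasStructure (p : ℕ) (G : Type*) [Group G] : Prop :=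
  ∃ E R : Subgroup G, (∀ e ∈ E, ∀ r ∈ R, e * r = r * e) ∧ E ⊔ R = ⊤ ∧
    (E = ⊥ ∨ Cfsg.IsExtraspecial p ↥E) ∧
    (IsCyclic R ∨ (p = 2 ∧ 16 ≤ Nat.card R ∧ ((∃ m : ℕ, Nonempty (↥R ≃* DihedralGroup m)) ∨
      (∃ m : ℕ, Nonempty (↥R ≃* QuaternionGroup m)) ∨ Cfsg.IsQuasiDihedral ↥R)))

variable {G : Type*} [Group G] [Finite G] {p : ℕ} [hp : Fact p.Prime]

/-- Elements of order dividing `p` of a cyclic subgroup. -/
theorem mem_zpowers_of_cyclic {W : Subgroup G} (hW : IsCyclic W) {c t : G}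
    (hcW : c ∈ W) (htW : t ∈ W) (ht : t ^ orderOf c = 1) : t ∈ Subgroup.zpowers c := by
  classical
  by_contra hcon
  cases nonempty_fintype W
  have hle := IsCyclic.card_pow_eq_one_le (α := W) (n := orderOf c) (orderOf_pos c)
  have hzp : ∀ x ∈ Subgroup.zpowers c, x ^ orderOf c = 1 := fun x hx => by
    rw [← orderOf_dvd_iff_pow_eq_one]; exact orderOf_dvd_of_mem_zpowers hx
  have hcW' := Subgroup.zpowers_le.mpr hcW
  let g : Option (Subgroup.zpowers c) → (Finset.univ.filter fun a : W => a ^ orderOf c = 1) := fun o =>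
    match o with
    | none => ⟨⟨t, htW⟩, by simp [Subtype.ext_iff, ht]⟩
    | some x => ⟨⟨x, hcW' x.2⟩, by simp [Subtype.ext_iff, hzp x x.2]⟩
  have hg : Function.Injective g := by
    rintro (_ | x) (_ | y) h
    · rfl
    · exact absurd ((show t = (y : G) from congrArg (fun a => ((a.1 : W) : G)) h) ▸ y.2) hcon
    · exact absurd ((show t = (x : G) from (congrArg (fun a => ((a.1 : W) : G)) h).symm) ▸ x.2) hcon
    · exact congrArg some (Subtype.ext (congrArg (fun a => ((a.1 : W) : G)) h))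
  cases nonempty_fintype (Subgroup.zpowers c)
  have h1 := Fintype.card_le_of_injective g hg
  rw [Fintype.card_option, Fintype.card_coe, ← Nat.card_eq_fintype_card, Nat.card_zpowers] at h1
  omega

/-- Properties of the critical subgroup `C` and its centre `Z`. -/
structure Setup (p : ℕ) (C Z : Subgroup G) (c : G) : Prop where
  pgroup : IsPGroup p G
  symp : ∀ A : Subgroup G, A.Characteristic → IsMulCommutative A → IsCyclic A
  charC : C.Characteristic
  charZ : Z.Characteristic
  eqZ : Z = C ⊓ Subgroup.centralizer (C : Set G)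
  self : Subgroup.centralizer (C : Set G) ≤ C
  cyc : IsCyclic Z
  comm : ∀ e ∈ C, ∀ g : G, ⁅e, g⁆ ∈ Z
  powZ : ∀ e ∈ C, e ^ p ∈ Z
  cmem : c ∈ Z
  ord : orderOf c = p
  central : ∀ g : G, Commute g c

theorem exists_setup (hG : IsPGroup p G)
    (hsymp : ∀ A : Subgroup G, A.Characteristic → IsMulCommutative A → IsCyclic A) [Nontrivial G] :
    ∃ C Z c, Setup (G := G) p C Z c := by
  obtain ⟨C, hC, hΦ, hcomm, hself⟩ := CfsgLib.Transfer.exists_critical hG
  have := hC
  set Z := C ⊓ Subgroup.centralizer (C : Set G) with hZ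
  have hZc : Z.Characteristic :=
    Subgroup.characteristic_inf
  have hcyc : IsCyclic Z := hsymp Z hZc ⟨⟨fun a b => Subtype.ext ((b.2.2 a a.2.1))⟩⟩
  have hcenZ : Subgroup.center G ≤ Z := fun x hx => by
    have h : x ∈ Subgroup.centralizer (C : Set G) := Subgroup.center_le_centralizer _ hx
    exact ⟨hself h, h⟩
  have := hG.center_nontrivial
  obtain ⟨k, hk⟩ := IsPGroup.iff_card.mp (hG.to_subgroup (Subgroup.center G))
  obtain ⟨w, hw⟩ := exists_prime_orderOf_dvd_card' p (G := Subgroup.center G) (by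
    rcases k with _ | k
    · exact absurd hk (ne_of_gt (by simpa using Finite.one_lt_card))
    · exact hk ▸ dvd_pow_self p (Nat.succ_ne_zero k))
  refine ⟨C, Z, w, hG, hsymp, hC, hZc, hZ, hself, hcyc, fun e he g => ?_, fun e he => ?_,
    hcenZ w.2, by rw [← hw, Subgroup.orderOf_coe], fun g => (Subgroup.mem_center_iff.mp w.2 g)⟩
  · exact hcomm (Subgroup.commutator_mem_commutator he (Subgroup.mem_top g))
  · refine ⟨pow_mem he p, hΦ ?_⟩
    exact ⟨(⟨e, he⟩ : C) ^ p, CfsgLib.Solvable.pow_mem_frattini (hG.to_subgroup C) _, rfl⟩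

variable {C Z : Subgroup G} {c : G}

theorem Setup.small (S : Setup p C Z c) {x : G} (hx : x ∈ Z) (hxp : x ^ p = 1) :
    x ∈ Subgroup.zpowers c :=
  mem_zpowers_of_cyclic S.cyc S.cmem hx (by rw [S.ord, hxp])

theorem Setup.commute_Z (S : Setup p C Z c) {x z : G} (hx : x ∈ C) (hz : z ∈ Z) : Commute x z := by
  rw [S.eqZ] at hz
  exact hz.2 x hx

theorem Setup.comm_small (S : Setup p C Z c) {x y : G} (hx : x ∈ C) (hy : y ∈ C) :
    ⁅x, y⁆ ∈ Subgroup.zpowers c := by
  refine S.small (S.comm x hx y) ?_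
  have hk := S.comm x hx y
  have h : x * y * x⁻¹ = ⁅x, y⁆ * y := by rw [commutatorElement_def]; group
  have h1 : (⁅x, y⁆ * y) ^ p = x * y ^ p * x⁻¹ := by rw [← h, conj_pow]
  rw [((S.commute_Z hy hk).symm).mul_pow, (S.commute_Z hx (S.powZ y hy)).eq,
    mul_inv_cancel_right] at h1
  exact mul_eq_right.mp h1

/-- `G = E C(E)` for `E ≤ C`. -/
theorem Setup.sup_centralizer (S : Setup p C Z c) {E : Subgroup G} (hEC : E ≤ C)
    (hE : Ext p c E) : E ⊔ Subgroup.centralizer (E : Set G) = ⊤ := by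
  by_cases hne : E = Subgroup.zpowers c
  · refine eq_top_iff.mpr fun g _ => Subgroup.mem_sup_right ?_
    rw [hne, Subgroup.mem_centralizer_iff]
    intro x hx
    obtain ⟨j, rfl⟩ := Subgroup.mem_zpowers_iff.mp hx
    exact (((S.central g).zpow_right j).eq).symm
  refine Cfsg.Agent.S0110.sup_eq_top S.pgroup E (hE.isExtraspecial S.pgroup S.ord hne) ?_
  rw [Subgroup.commutator_le]
  intro g _ e he
  have hzc : ∀ x ∈ Subgroup.zpowers c, x ∈ E ⊓ Subgroup.centralizer (E : Set G) := by
    intro x hx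
    refine ⟨Subgroup.zpowers_le.mpr hE.mem hx, fun y _ => ?_⟩
    obtain ⟨j, rfl⟩ := Subgroup.mem_zpowers_iff.mp hx
    exact ((S.central y).zpow_right j).eq
  apply hzc
  have hk : ⁅g, e⁆ ∈ Z := by
    rw [← commutatorElement_inv]; exact inv_mem (S.comm e (hEC he) g)
  refine S.small hk ?_
  have h : g * e * g⁻¹ = ⁅g, e⁆ * e := by rw [commutatorElement_def]; group
  have h1 : (⁅g, e⁆ * e) ^ p = g * e ^ p * g⁻¹ := by rw [← h, conj_pow]
  obtain ⟨j, hj⟩ := Subgroup.mem_zpowers_iff.mp (hE.pow e he)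
  rw [((S.commute_Z (hEC he) hk).symm).mul_pow, ← hj, ((S.central g).zpow_right j).eq,
    mul_inv_cancel_right] at h1
  exact mul_eq_right.mp h1

/-- Two noncommuting elements generate an extraspecial piece. -/
theorem Setup.ext_pair (S : Setup p C Z c) {a b : G} (ha : a ∈ C) (hb : b ∈ C)
    (hap : a ^ p ∈ Subgroup.zpowers c) (hbp : b ^ p ∈ Subgroup.zpowers c) (hab : ¬ Commute a b) :
    Ext p c (Subgroup.closure {a, b, c}) := by
  have hcC : c ∈ C := (S.eqZ ▸ S.cmem : c ∈ C ⊓ _).1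
  set P := Subgroup.closure ({a, b, c} : Set G) with hP
  have hPC : P ≤ C := (Subgroup.closure_le _).mpr (by
    rintro x (rfl | rfl | rfl) <;> assumption)
  have hzc : ∀ x ∈ Subgroup.zpowers c, ∀ g : G, Commute g x := by
    rintro _ ⟨j, rfl⟩ g
    exact (S.central g).zpow_right j
  have hform : ∀ x ∈ P, ∃ i j : ℤ, ∃ z ∈ Subgroup.zpowers c, x = a ^ i * b ^ j * z := by
    intro x hx
    let K : Subgroup G :=
      { carrier := {x | ∃ i j : ℤ, ∃ z ∈ Subgroup.zpowers c, x = a ^ i * b ^ j * z}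
        one_mem' := ⟨0, 0, 1, one_mem _, by simp⟩
        mul_mem' := by
          rintro _ _ ⟨i, j, z, hz, rfl⟩ ⟨i', j', z', hz', rfl⟩
          have hk := S.comm_small (zpow_mem hb j) (zpow_mem ha i')
          refine ⟨i + i', j + j', ⁅b ^ j, a ^ i'⁆ * z * z', mul_mem (mul_mem hk hz) hz', ?_⟩
          calc a ^ i * b ^ j * z * (a ^ i' * b ^ j' * z')
              = a ^ i * b ^ j * ((a ^ i' * b ^ j') * z) * z' := by
                rw [(hzc z hz (a ^ i' * b ^ j')).eq]; group
            _ = a ^ i * (⁅b ^ j, a ^ i'⁆ * (a ^ i' * b ^ j * b ^ j')) * z * z' := by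
                rw [commutatorElement_def]; group
            _ = a ^ i * ((a ^ i' * b ^ j * b ^ j') * ⁅b ^ j, a ^ i'⁆) * z * z' := by
                rw [(hzc _ hk (a ^ i' * b ^ j * b ^ j')).eq]
            _ = _ := by rw [zpow_add, zpow_add]; group
        inv_mem' := by
          rintro _ ⟨i, j, z, hz, rfl⟩
          have hk := S.comm_small (zpow_mem hb (-j)) (zpow_mem ha (-i))
          refine ⟨-i, -j, ⁅b ^ (-j), a ^ (-i)⁆ * z⁻¹, mul_mem hk (inv_mem hz), ?_⟩
          calc (a ^ i * b ^ j * z)⁻¹ = z⁻¹ * (⁅b ^ (-j), a ^ (-i)⁆ * (a ^ (-i) * b ^ (-j))) := by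
                rw [commutatorElement_def]; group
            _ = z⁻¹ * ((a ^ (-i) * b ^ (-j)) * ⁅b ^ (-j), a ^ (-i)⁆) := by
                rw [(hzc _ hk (a ^ (-i) * b ^ (-j))).eq]
            _ = _ := by
                rw [← (hzc z⁻¹ (inv_mem hz) (a ^ (-i) * b ^ (-j) * ⁅b ^ (-j), a ^ (-i)⁆)).eq]
                group }
    refine ((Subgroup.closure_le _).mpr ?_ : P ≤ K) hx
    rintro y (rfl | rfl | rfl)
    · exact ⟨1, 0, 1, one_mem _, by simp⟩
    · exact ⟨0, 1, 1, one_mem _, by simp⟩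
    · exact ⟨0, 0, y, Subgroup.mem_zpowers _, by simp⟩
  have hkey : ∀ u v : G, u ^ p ∈ Subgroup.zpowers c → ¬ Commute u v → ∀ i : ℤ, Commute (u ^ i) v →
      u ^ i ∈ Subgroup.zpowers c := by
    intro u v hup huv i h
    by_cases hi : (p : ℤ) ∣ i
    · obtain ⟨t, rfl⟩ := hi
      rw [zpow_mul, zpow_natCast]
      exact zpow_mem hup t
    · obtain ⟨s, t, hst⟩ : IsCoprime (p : ℤ) i :=
        (Nat.prime_iff_prime_int.mp hp.out).coprime_iff_not_dvd.mpr hi
      exfalso
      apply huv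
      have hu : u = (u ^ p) ^ s * (u ^ i) ^ t := by
        rw [← zpow_natCast, ← zpow_mul, ← zpow_mul, ← zpow_add,
          show (p : ℤ) * s + i * t = 1 by linear_combination hst, zpow_one]
      rw [hu]
      exact (((hzc _ hup v).symm).zpow_left s).mul_left (h.zpow_left t)
  refine ⟨Subgroup.subset_closure (by simp), fun x hx y hy => S.comm_small (hPC hx) (hPC hy),
    fun x hx => ?_, fun x hx hc => ?_⟩
  · obtain ⟨i, j, z, hz, rfl⟩ := hform x hx
    have hk := S.comm_small (zpow_mem hb j) (zpow_mem ha i)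
    have h : b ^ j * a ^ i = ⁅b ^ j, a ^ i⁆ * a ^ i * b ^ j := by rw [commutatorElement_def]; group
    rw [(hzc z hz (a ^ i * b ^ j)).mul_pow,
      mul_pow_of_comm h (hzc _ hk _).symm (hzc _ hk _).symm]
    refine mul_mem (mul_mem (mul_mem (pow_mem hk _) ?_) ?_) (pow_mem hz p)
    · rw [← zpow_natCast, ← zpow_mul, mul_comm, zpow_mul, zpow_natCast]; exact zpow_mem hap i
    · rw [← zpow_natCast, ← zpow_mul, mul_comm, zpow_mul, zpow_natCast]; exact zpow_mem hbp j
  · obtain ⟨i, j, z, hz, rfl⟩ := hform x hx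
    have h1 : Commute (a ^ i * b ^ j) a := by
      have := (hc a (Subgroup.subset_closure (by simp))).mul_left (hzc z hz a).symm.inv_left
      rwa [mul_inv_cancel_right] at this
    have h2 : Commute (a ^ i * b ^ j) b := by
      have := (hc b (Subgroup.subset_closure (by simp))).mul_left (hzc z hz b).symm.inv_left
      rwa [mul_inv_cancel_right] at this
    have h3 : Commute (b ^ j) a := by
      have := ((Commute.refl a).zpow_left i).inv_left.mul_left h1
      rwa [inv_mul_cancel_left] at this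
    have h4 : Commute (a ^ i) b := by
      have := h2.mul_left ((Commute.refl b).zpow_left j).inv_left
      rwa [mul_inv_cancel_right] at this
    exact mul_mem (mul_mem (hkey a b hap hab i h4) (hkey b a hbp (fun h => hab h.symm) j h3)) hz

/-- `C = E Z`. -/
theorem Setup.exists_ext (S : Setup p C Z c) :
    ∃ E, E ≤ C ∧ Ext p c E ∧ ∀ x ∈ Subgroup.centralizer (E : Set G),
      (∀ z ∈ Z, Commute x z) → x ∈ Z := by
  classical
  have hcC : c ∈ C := (S.eqZ ▸ S.cmem : c ∈ C ⊓ _).1
  obtain ⟨E, ⟨hEC, hE, hEp⟩, hmax⟩ := (Set.toFinite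
    {E : Subgroup G | E ≤ C ∧ Ext p c E ∧ ∀ x ∈ E, x ^ p ∈ Subgroup.zpowers c}).exists_maximalFor
      id _ ⟨Subgroup.zpowers c, Subgroup.zpowers_le.mpr hcC, ext_zpowers S.ord,
        fun x hx => pow_mem hx p⟩
  refine ⟨E, hEC, hE, ?_⟩
  -- `S₀`: elements of `C` with `p`-th power in `⟨c⟩`
  have hzc : ∀ x ∈ Subgroup.zpowers c, ∀ g : G, Commute g x := by
    rintro _ ⟨j, rfl⟩ g
    exact (S.central g).zpow_right j
  let S₀ : Subgroup G :=
    { carrier := {x | x ∈ C ∧ x ^ p ∈ Subgroup.zpowers c}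
      one_mem' := ⟨one_mem _, by rw [one_pow]; exact one_mem _⟩
      mul_mem' := by
        rintro x y ⟨hx, hxp⟩ ⟨hy, hyp⟩
        refine ⟨mul_mem hx hy, ?_⟩
        have hk := S.comm_small hy hx
        have h : y * x = ⁅y, x⁆ * x * y := by rw [commutatorElement_def]; group
        rw [mul_pow_of_comm h (hzc _ hk _).symm (hzc _ hk _).symm]
        exact mul_mem (mul_mem (pow_mem hk _) hxp) hyp
      inv_mem' := fun {x} hx => ⟨inv_mem hx.1, by rw [inv_pow]; exact inv_mem hx.2⟩ }
  have hS₀c : S₀.Characteristic := by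
    refine Subgroup.characteristic_iff_le_comap.mpr fun φ x hx => ?_
    refine ⟨(Subgroup.characteristic_iff_le_comap.mp S.charC φ) hx.1, ?_⟩
    obtain ⟨j, hj⟩ := Subgroup.mem_zpowers_iff.mp hx.2
    show (φ x) ^ p ∈ _
    rw [← map_pow, ← hj, map_zpow]
    refine zpow_mem (S.small ((Subgroup.characteristic_iff_le_comap.mp S.charZ φ) S.cmem) ?_) j
    show (φ c) ^ p = 1
    rw [← map_pow, ← S.ord, pow_orderOf_eq_one, map_one]
  set W := S₀ ⊓ Subgroup.centralizer (S₀ : Set G) with hW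
  have hWcyc : IsCyclic W := S.symp W
    Subgroup.characteristic_inf
    ⟨⟨fun a b => Subtype.ext (b.2.2 a a.2.1)⟩⟩
  have hES : E ≤ S₀ := fun x hx => ⟨hEC hx, hEp x hx⟩
  have hab : ∀ a ∈ S₀, ∀ b ∈ S₀, a ∈ Subgroup.centralizer (E : Set G) →
      b ∈ Subgroup.centralizer (E : Set G) → Commute a b := by
    intro a ha b hb haE hbE
    by_contra hab
    have hP := S.ext_pair ha.1 hb.1 ha.2 hb.2 hab
    have hcom : ∀ e ∈ E, ∀ f ∈ Subgroup.closure ({a, b, c} : Set G), Commute e f := by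
      intro e he f hf
      have hle : Subgroup.closure ({a, b, c} : Set G) ≤ Subgroup.centralizer ({e} : Set G) := by
        refine (Subgroup.closure_le _).mpr ?_
        rintro y (rfl | rfl | rfl)
        · exact Subgroup.mem_centralizer_singleton_iff.mpr (haE e he).symm
        · exact Subgroup.mem_centralizer_singleton_iff.mpr (hbE e he).symm
        · exact Subgroup.mem_centralizer_singleton_iff.mpr (S.central e).eq.symm
      exact (Subgroup.mem_centralizer_singleton_iff.mp (hle hf)).symm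
    have hsup := hE.sup hP hcom
    have hle : E ⊔ Subgroup.closure ({a, b, c} : Set G) ≤ C := sup_le hEC
      ((Subgroup.closure_le _).mpr (by rintro y (rfl | rfl | rfl) <;> first | exact ha.1 | exact hb.1 | exact hcC))
    have heq := hmax ⟨hle, hsup, hsup.pow⟩ (le_sup_left (b := Subgroup.closure ({a, b, c} : Set G)))
    have haE' : a ∈ E := heq (Subgroup.mem_sup_right (Subgroup.subset_closure (by simp)))
    exact hab (hbE a haE')
  have hsplit : ∀ x ∈ C, ∃ e ∈ E, ∃ t ∈ C, t ∈ Subgroup.centralizer (E : Set G) ∧ x = e * t := by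
    intro x hx
    obtain ⟨e, he, t, ht, h⟩ := exists_mul_of_mem_sup (fun e he t (ht : t ∈ Subgroup.centralizer (E : Set G)) => (ht e he : Commute e t))
      ((S.sup_centralizer hEC hE).symm ▸ Subgroup.mem_top x)
    exact ⟨e, he, t, by rw [show t = e⁻¹ * x by rw [h]; group]; exact mul_mem (inv_mem (hEC he)) hx,
      ht, h⟩
  have hsmall : ∀ t ∈ S₀, t ∈ Subgroup.centralizer (E : Set G) → t ∈ Z := by
    intro t ht htE
    have htW : t ∈ W := by
      refine ⟨ht, fun s hs => ?_⟩
      obtain ⟨e, he, w, hwC, hwE, rfl⟩ := hsplit s hs.1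
      have hwS : w ∈ S₀ := by
        have := mul_mem (inv_mem (hES he)) hs
        rwa [inv_mul_cancel_left] at this
      exact (Commute.mul_left (htE e he) (hab w hwS t ht hwE htE)).eq
    by_cases hex : ∀ z ∈ Z, z ^ p = 1
    · rw [S.eqZ]
      refine ⟨ht.1, fun x hx => ?_⟩
      exact htW.2 x ⟨hx, by
        have h1 := hex _ (S.powZ x hx)
        exact S.small (S.powZ x hx) h1⟩
    push Not at hex
    obtain ⟨u, huZ, hu⟩ : ∃ u ∈ Z, orderOf u = p ^ 2 := by
      obtain ⟨z, hz, hzp⟩ := hex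
      obtain ⟨k, hk⟩ := (IsPGroup.iff_orderOf (p := p)).mp S.pgroup z
      have hk2 : 2 ≤ k := by
        by_contra h
        apply hzp
        rw [← orderOf_dvd_iff_pow_eq_one, hk]
        exact (pow_dvd_pow p (show k ≤ 1 by omega)).trans (dvd_of_eq (pow_one p))
      refine ⟨z ^ p ^ (k - 2), pow_mem hz _, ?_⟩
      rw [orderOf_pow' _ (pow_ne_zero _ hp.out.ne_zero), hk,
        Nat.gcd_eq_right (pow_dvd_pow p (by omega)), Nat.pow_div (by omega) hp.out.pos,
        show k - (k - 2) = 2 by omega]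
    have huS : u ∈ S₀ := by
      refine ⟨(S.eqZ ▸ huZ : u ∈ C ⊓ _).1, S.small (pow_mem huZ p) ?_⟩
      rw [← pow_mul, ← sq, ← hu, pow_orderOf_eq_one]
    have huW : u ∈ W := ⟨huS, fun s hs => (S.commute_Z hs.1 huZ).eq⟩
    by_cases htp : t ^ p = 1
    · exact Subgroup.zpowers_le.mpr S.cmem (mem_zpowers_of_cyclic hWcyc
        ⟨⟨hcC, by rw [← S.ord, pow_orderOf_eq_one]; exact one_mem _⟩,
          fun s _ => (S.central s).eq⟩ htW (by rw [S.ord, htp]))
    · refine Subgroup.zpowers_le.mpr huZ (mem_zpowers_of_cyclic hWcyc huW htW ?_)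
      rw [hu, sq, pow_mul, ← orderOf_dvd_iff_pow_eq_one]
      have := orderOf_dvd_of_mem_zpowers ht.2
      rwa [S.ord] at this
  intro x hxE hxZ
  have hT : ∀ v ∈ C, v ∈ Subgroup.centralizer (E : Set G) → ∀ w ∈ C,
      w ∈ Subgroup.centralizer (E : Set G) → Commute v w := by
    have key : ∀ v ∈ C, v ∈ Subgroup.centralizer (E : Set G) → ∀ w ∈ C,
        w ∈ Subgroup.centralizer (E : Set G) → w ^ p ∈ Subgroup.zpowers (v ^ p) → Commute v w := by
      intro v hv hvE w hw hwE h
      obtain ⟨j, hj⟩ := Subgroup.mem_zpowers_iff.mp h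
      have hk := S.comm_small hw (zpow_mem hv (-j))
      have hrel : w * v ^ (-j) = ⁅w, v ^ (-j)⁆ * v ^ (-j) * w := by
        rw [commutatorElement_def]; group
      have hd : v ^ (-j) * w ∈ S₀ := by
        refine ⟨mul_mem (zpow_mem hv _) hw, ?_⟩
        rw [mul_pow_of_comm hrel (hzc _ hk _).symm (hzc _ hk _).symm, mul_assoc]
        refine mul_mem (pow_mem hk _) ?_
        rw [← hj, ← zpow_natCast (v ^ (-j)), ← zpow_mul, mul_comm (-j), zpow_mul, zpow_natCast,
          zpow_neg, inv_mul_cancel]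
        exact one_mem _
      have := (Commute.self_zpow v j).mul_right
        (S.commute_Z hv (hsmall _ hd (mul_mem (zpow_mem hvE _) hwE)))
      rwa [← mul_assoc, ← zpow_add, add_neg_cancel, zpow_zero, one_mul] at this
    intro v hv hvE w hw hwE
    by_cases h : w ^ p ∈ Subgroup.zpowers (v ^ p)
    · exact key v hv hvE w hw hwE h
    refine (key w hw hwE v hv hvE ?_).symm
    -- in a cyclic `p`-group the subgroups form a chain
    obtain ⟨i, hi⟩ := (IsPGroup.iff_orderOf (p := p)).mp S.pgroup (v ^ p)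
    obtain ⟨i', hi'⟩ := (IsPGroup.iff_orderOf (p := p)).mp S.pgroup (w ^ p)
    rcases le_total i' i with hle | hle
    · refine absurd (mem_zpowers_of_cyclic S.cyc (S.powZ v hv) (S.powZ w hw) ?_) h
      rw [← orderOf_dvd_iff_pow_eq_one, hi, hi']
      exact pow_dvd_pow p hle
    · refine mem_zpowers_of_cyclic S.cyc (S.powZ w hw) (S.powZ v hv) ?_
      rw [← orderOf_dvd_iff_pow_eq_one, hi, hi']
      exact pow_dvd_pow p hle
  have hxC : x ∈ Subgroup.centralizer (C : Set G) := by
    intro y hy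
    obtain ⟨e, he, t, htC, htE, rfl⟩ := hsplit y hy
    have htZ : t ∈ Z := by
      rw [S.eqZ]
      refine ⟨htC, fun y hy => ?_⟩
      obtain ⟨e', he', t', htC', htE', rfl⟩ := hsplit y hy
      exact ((show Commute e' t from htE e' he').mul_left (hT t' htC' htE' t htC htE)).eq
    exact ((show Commute e x from hxE e he).mul_left (hxZ t htZ).symm).eq
  rw [S.eqZ]
  exact ⟨S.self hxC, hxC⟩

end CfsgLib.SymplecticType
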