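import Cfsg.Agent.SelfCentralCyclic.Cases
import Cfsg.Agent.SymplecticType.Ext

/-!
# The part centralizing the extraspecial factor
-/

set_option autoImplicit false
set_option linter.unusedSectionVars false

namespace CfsgLib.SymplecticType

open scoped commutatorElement
open CfsgLib.SelfCentralCyclic (Data)
open CfsgLib.Classification.CyclicNormal (mul_pow_of_comm)

variable {G : Type*} [Group G] [Finite G] {p n : ℕ} [hp : Fact p.Prime] {a : G} {r : G → ℤ}

/-- The case of order `p ^ 3`. -/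
theorem ext_top_of_two (D : Data p 2 a r) (hcard : Nat.card G = p ^ 3) :
    Ext p (a ^ (p : ℤ)) (⊤ : Subgroup G) := by
  have hcen : ∀ g, Commute g (a ^ (p : ℤ)) := fun g => by simpa using D.central g
  set c := a ^ (p : ℤ) with hc
  set U := Subgroup.zpowers a with hU
  have hUn : U.Normal := by
    refine ⟨fun x hx g => ?_⟩
    obtain ⟨j, rfl⟩ := Subgroup.mem_zpowers_iff.mp hx
    exact ⟨r g * j, (D.conj_zpow' g j).symm⟩
  have hCn : (Subgroup.zpowers c).Normal := by
    refine ⟨fun x hx g => ?_⟩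
    obtain ⟨j, rfl⟩ := Subgroup.mem_zpowers_iff.mp hx
    rw [((hcen g).zpow_right j).eq, mul_inv_cancel_right]
    exact Subgroup.zpow_mem _ (Subgroup.mem_zpowers c) j
  have hco : orderOf c = p := by
    refine orderOf_eq_prime ?_ ?_
    · rw [hc, ← zpow_natCast, ← zpow_mul, D.zpow_one_iff, sq]
    · intro h
      rw [hc, D.zpow_one_iff, ← Nat.cast_pow, Int.natCast_dvd_natCast] at h
      have := Nat.le_of_dvd hp.out.pos h
      have := hp.out.two_le
      nlinarith
  have hidxU : U.index = p := by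
    have h := Subgroup.card_mul_index U
    rw [Nat.card_zpowers, D.order, hcard, pow_succ p 2] at h
    exact Nat.eq_of_mul_eq_mul_left (pow_pos hp.out.pos 2) h
  have hQ : Nat.card (G ⧸ Subgroup.zpowers c) = p ^ 2 := by
    have h := Subgroup.card_mul_index (Subgroup.zpowers c)
    rw [Nat.card_zpowers, hco, hcard, pow_succ' p 2] at h
    rw [← Subgroup.index_eq_card]
    exact Nat.eq_of_mul_eq_mul_left hp.out.pos h
  have hdiv : ∀ i : ℤ, (p : ℤ) ∣ i → a ^ i ∈ Subgroup.zpowers c := by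
    rintro _ ⟨t, rfl⟩
    exact ⟨t, by show (a ^ (p : ℤ)) ^ t = _; rw [← zpow_mul]⟩
  have hcomm : ∀ g, g ∉ U → ∀ i : ℤ, Commute g (a ^ i) → (p : ℤ) ∣ i := by
    intro g hg i h
    have h1 : g * a ^ i * g⁻¹ = a ^ i := by rw [h.eq, mul_inv_cancel_right]
    rw [D.conj_zpow', D.zpow_eq, show r g * i - i = (r g - 1) * i by ring] at h1
    by_contra hi
    exact hg (D.mem_of_dvd ((((Nat.prime_iff_prime_int.mp hp.out).coprime_iff_not_dvd.mpr
      hi).pow_left (m := 2)).dvd_of_dvd_mul_right h1))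
  refine ⟨Subgroup.mem_top _, fun x _ y _ => ?_, fun x _ => ?_, fun x _ hx => ?_⟩
  · rw [← QuotientGroup.eq_one_iff, ← QuotientGroup.mk'_apply, map_commutatorElement,
      commutatorElement_eq_one_iff_mul_comm]
    exact IsPGroup.commutative_of_card_eq_prime_sq hQ _ _
  · by_cases hxU : x ∈ U
    · obtain ⟨i, rfl⟩ := Subgroup.mem_zpowers_iff.mp hxU
      rw [← zpow_natCast, ← zpow_mul]
      exact hdiv _ (Dvd.intro_left _ rfl)
    · have h := Subgroup.pow_index_mem U x
      rw [hidxU] at h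
      obtain ⟨i, hi⟩ := Subgroup.mem_zpowers_iff.mp h
      rw [← hi]
      exact hdiv i (hcomm x hxU i (hi ▸ Commute.self_pow x p))
  · obtain ⟨g, hg⟩ := D.nonab
    obtain ⟨i, rfl⟩ := Subgroup.mem_zpowers_iff.mp (D.self x (hx a (Subgroup.mem_top a)))
    exact hdiv i (hcomm g hg i (hx g (Subgroup.mem_top g)).symm)

/-- An element of order `p` outside `U`, central in the part of exponent `p ^ 2`. -/
theorem exists_small_central (D : Data p n a r) (hn : 3 ≤ n) {M : Subgroup G}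
    (hM : ∀ g, g ∈ M ↔ (p : ℤ) ^ (n - 1) ∣ r g - 1)
    (hidx : (Subgroup.zpowers a).relIndex M = p)
    (hel : Cfsg.IsElementaryAbelian p (Cfsg.omegaOne p M))
    (hcard : Nat.card (Cfsg.omegaOne p M) = p ^ 2) :
    ∃ y : G, y ^ p = 1 ∧ y ∉ Subgroup.zpowers a ∧ Commute y (a ^ (p : ℤ)) ∧
      ∀ m : G, Commute m (a ^ (p : ℤ)) → m ^ p ^ 2 = 1 → Commute m y := by
  obtain ⟨d, rfl⟩ : ∃ d, n = d + 3 := ⟨n - 3, by omega⟩
  rw [show d + 3 - 1 = d + 2 from rfl] at hM
  set U := Subgroup.zpowers a with hU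
  have hp0 : (p : ℤ) ≠ 0 := by exact_mod_cast hp.out.ne_zero
  have hcen : ∀ g, Commute g (a ^ ((p : ℤ) ^ (d + 2))) := fun g => D.central g
  have hMcomm : ∀ g, g ∈ M ↔ Commute g (a ^ (p : ℤ)) := by
    intro g
    rw [hM]
    have hpz : ((p : ℤ) ^ (d + 3)) = p * (p : ℤ) ^ (d + 2) := pow_succ' _ _
    constructor
    · intro h
      refine mul_inv_eq_iff_eq_mul.mp ?_
      rw [D.conj_zpow', D.zpow_eq, hpz, show r g * p - (p : ℤ) = p * (r g - 1) by ring]
      exact mul_dvd_mul_left _ h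
    · intro h
      have h1 : g * a ^ (p : ℤ) * g⁻¹ = a ^ (p : ℤ) := by rw [h.eq, mul_inv_cancel_right]
      rw [D.conj_zpow', D.zpow_eq, hpz, show r g * p - (p : ℤ) = p * (r g - 1) by ring,
        mul_dvd_mul_iff_left hp0] at h1
      exact h1
  obtain ⟨y, hyM, hyp, hyU⟩ : ∃ y ∈ M, y ^ p = 1 ∧ y ∉ U := by
    by_contra hcon
    push Not at hcon
    have hle : Cfsg.omegaOne p M ≤ U :=
      (Subgroup.closure_le _).mpr fun g hg => hcon g hg.1 hg.2
    have := Subgroup.isCyclic_of_le hle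
    obtain ⟨w, hw⟩ := IsCyclic.exists_generator (α := Cfsg.omegaOne p M)
    have h1 := orderOf_eq_card_of_forall_mem_zpowers hw
    have h2 : orderOf w ∣ p := orderOf_dvd_of_pow_eq_one (Subtype.ext (hel.2 w w.2))
    rw [h1, hcard] at h2
    have := Nat.le_of_dvd hp.out.pos h2
    have := hp.out.two_le
    nlinarith
  refine ⟨y, hyp, hyU, (hMcomm y).mp hyM, fun m hm hmp => ?_⟩
  have hUM : U ≤ M := Subgroup.zpowers_le.mpr ((hMcomm a).mpr ((Commute.refl a).zpow_right _))
  have hUn : U.Normal := by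
    refine ⟨fun x hx g => ?_⟩
    obtain ⟨j, rfl⟩ := Subgroup.mem_zpowers_iff.mp hx
    exact ⟨r g * j, (D.conj_zpow' g j).symm⟩
  have hmemV : m ∈ U ⊔ Subgroup.zpowers y := by
    have hVM : U ⊔ Subgroup.zpowers y ≤ M := sup_le hUM (Subgroup.zpowers_le.mpr hyM)
    have h := Subgroup.relIndex_mul_relIndex U _ M (le_sup_left (b := Subgroup.zpowers y)) hVM
    rw [hidx] at h
    rcases hp.out.eq_one_or_self_of_dvd _ (Dvd.intro _ h) with h1 | h1
    · exact absurd (Subgroup.relIndex_eq_one.mp h1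
        (Subgroup.mem_sup_right (Subgroup.mem_zpowers y))) hyU
    · rw [h1] at h
      exact Subgroup.relIndex_eq_one.mp
        (Nat.eq_of_mul_eq_mul_left hp.out.pos (h.trans (mul_one p).symm)) ((hMcomm m).mpr hm)
  obtain ⟨u, hu, w, hw, rfl⟩ := Subgroup.mem_sup_of_normal_left.mp hmemV
  obtain ⟨i, rfl⟩ := Subgroup.mem_zpowers_iff.mp hu
  obtain ⟨j, rfl⟩ := Subgroup.mem_zpowers_iff.mp hw
  have hjM : y ^ j ∈ M := zpow_mem hyM j
  obtain ⟨e, he⟩ := (hM _).mp hjM
  have hwp : (y ^ j) ^ p = 1 := by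
    rw [← zpow_natCast, ← zpow_mul, mul_comm, zpow_mul, zpow_natCast, hyp, one_zpow]
  set s := (p : ℤ) ^ (d + 2) * (e * i) with hs
  have hcs : ∀ g, Commute (a ^ s) g := fun g => by
    rw [hs, zpow_mul]; exact ((hcen g).zpow_right _).symm
  have hrel : y ^ j * a ^ i = a ^ s * a ^ i * y ^ j := by
    rw [← mul_inv_eq_iff_eq_mul, D.conj_zpow', ← zpow_add, D.zpow_eq, hs]
    exact ⟨0, by linear_combination i * he⟩
  have hpow := mul_pow_of_comm hrel (hcs _) (hcs _) p
  rw [hwp, mul_one] at hpow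
  have hi : (p : ℤ) ∣ i := by
    rw [sq, pow_mul, hpow] at hmp
    simp only [← zpow_natCast, ← zpow_mul, ← zpow_add] at hmp
    rw [D.zpow_one_iff, hs] at hmp
    obtain ⟨t, ht⟩ := hmp
    refine ⟨(p : ℤ) ^ d * (t - e * i * (p.choose 2 : ℕ)), ?_⟩
    apply mul_left_cancel₀ (pow_ne_zero 2 hp0)
    rw [pow_add, pow_add] at ht
    linear_combination ht
  obtain ⟨i', rfl⟩ := hi
  refine Commute.mul_left ?_ ((Commute.refl y).zpow_left j)
  rw [zpow_mul]
  exact ((((hMcomm y).mp hyM).symm).zpow_left i')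

end CfsgLib.SymplecticType
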